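import Cfsg.Agent.Lib.Mult.ON.CvD

set_option autoImplicit false
set_option maxRecDepth 100000
set_option Elab.async false

namespace Cfsg.Agent.Mult.ON

open Cfsg.Agent.CG Cfsg.Agent.CG.ON

theorem cvc0 : cv0.chk tcR 0 32 = true := by decide +kernel
theorem cvc1 : cv0.chk tcR 32 32 = true := by decide +kernel
theorem cvc2 : cv0.chk tcR 64 32 = true := by decide +kernel
theorem cvc3 : cv0.chk tcR 96 32 = true := by decide +kernel
theorem cvc4 : cv0.chk tcR 128 48 = true := by decide +kernel
theorem cvc5 : cv0.chk tcR 176 34 = true := by decide +kernel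
theorem cvc6 : cv0.chk tcR 210 34 = true := by decide +kernel
theorem cvc7 : cv0.chk tcR 244 34 = true := by decide +kernel
theorem cvc8 : cv0.chk tcR 278 29 = true := by decide +kernel
theorem cvc9 : cv0.chk tcR 307 11 = true := by decide +kernel
theorem cvc10 : cv0.chk tcR 318 15 = true := by decide +kernel
theorem cvc11 : cv0.chk tcR 333 17 = true := by decide +kernel
theorem cvc12 : cv0.chk tcR 350 17 = true := by decide +kernel
theorem cvc13 : cv0.chk tcR 367 17 = true := by decide +kernel
theorem cvc14 : cv0.chk tcR 384 16 = true := by decide +kernel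
theorem cvc15 : cv0.chk tcR 400 11 = true := by decide +kernel
theorem cvc16 : cv0.chk tcR 411 14 = true := by decide +kernel
theorem cvc17 : cv0.chk tcR 425 17 = true := by decide +kernel
theorem cvc18 : cv0.chk tcR 442 17 = true := by decide +kernel
theorem cvc19 : cv0.chk tcR 459 16 = true := by decide +kernel
theorem cvc20 : cv0.chk tcR 475 4 = true := by decide +kernel
theorem cvc21 : cv0.chk tcR 479 4 = true := by decide +kernel
theorem cvc22 : cv0.chk tcR 483 4 = true := by decide +kernel
theorem cvc23 : cv0.chk tcR 487 4 = true := by decide +kernel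
theorem cvc24 : cv0.chk tcR 491 8 = true := by decide +kernel
theorem cvc25 : cv0.chk tcR 499 17 = true := by decide +kernel
theorem cvc26 : cv0.chk tcR 516 17 = true := by decide +kernel
theorem cvc27 : cv0.chk tcR 533 11 = true := by decide +kernel
theorem cvc28 : cv0.chk tcR 544 14 = true := by decide +kernel
theorem cvc29 : cv0.chk tcR 558 15 = true := by decide +kernel
theorem cvc30 : cv0.chk tcR 573 11 = true := by decide +kernel
theorem cvc31 : cv0.chk tcR 584 15 = true := by decide +kernel
theorem cvc32 : cv0.chk tcR 599 12 = true := by decide +kernel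
theorem cvc33 : cv0.chk tcR 611 7 = true := by decide +kernel
theorem cvc34 : cv0.chk tcR 618 7 = true := by decide +kernel
theorem cvc35 : cv0.chk tcR 625 7 = true := by decide +kernel
theorem cvc36 : cv0.chk tcR 632 7 = true := by decide +kernel
theorem cvc37 : cv0.chk tcR 639 7 = true := by decide +kernel
theorem cvc38 : cv0.chk tcR 646 7 = true := by decide +kernel
theorem cvc39 : cv0.chk tcR 653 7 = true := by decide +kernel
theorem cvc40 : cv0.chk tcR 660 6 = true := by decide +kernel
theorem cvc41 : cv0.chk tcR 666 3 = true := by decide +kernel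
theorem cvc42 : cv0.chk tcR 669 3 = true := by decide +kernel
theorem cvc43 : cv0.chk tcR 672 3 = true := by decide +kernel
theorem cvc44 : cv0.chk tcR 675 3 = true := by decide +kernel
theorem cvc45 : cv0.chk tcR 678 3 = true := by decide +kernel
theorem cvc46 : cv0.chk tcR 681 4 = true := by decide +kernel
theorem cvc47 : cv0.chk tcR 685 6 = true := by decide +kernel
theorem cvc48 : cv0.chk tcR 691 6 = true := by decide +kernel
theorem cvc49 : cv0.chk tcR 697 6 = true := by decide +kernel
theorem cvc50 : cv0.chk tcR 703 6 = true := by decide +kernel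
theorem cvc51 : cv0.chk tcR 709 6 = true := by decide +kernel
theorem cvc52 : cv0.chk tcR 715 6 = true := by decide +kernel
theorem cvc53 : cv0.chk tcR 721 1 = true := by decide +kernel
theorem cvc54 : cv0.chkP cvP [1] = true := by decide +kernel
theorem cvc55 : chkPairs app bs tcS cvP = true := by decide +kernel

end Cfsg.Agent.Mult.ON
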