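import Cfsg.Agent.Lib.Mult.ON.CvT0
import Cfsg.Agent.Lib.Mult.ON.CvT1
import Cfsg.Agent.Lib.Mult.ON.CvT2
import Cfsg.Agent.Lib.Mult.Cov
import Cfsg.Agent.Lib.Grp.ON.Defs

set_option autoImplicit false
set_option maxRecDepth 100000
set_option Elab.async false

namespace Cfsg.Agent.Mult.ON

open Cfsg.Agent.CG Cfsg.Agent.CG.ON

noncomputable def cvP : List (List ℕ × List ℕ) := [([2,3],
  [0,2,3,1])]
noncomputable def cv0s0 : List (ℕ × ℕ) := [(65536, copies 131072 3 cv0m0),
  (32768, copies 131072 3 cv0m1),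
  (16384, copies 131072 3 cv0m2),
  (8192, copies 131072 3 cv0m3),
  (4096, copies 131072 3 cv0m4),
  (2048, copies 131072 3 cv0m5),
  (1024, copies 131072 3 cv0m6),
  (512, copies 131072 3 cv0m7),
  (256, copies 131072 3 cv0m8),
  (128, copies 131072 3 cv0m9),
  (64, copies 131072 3 cv0m10),
  (32, copies 131072 3 cv0m11),
  (16, copies 131072 3 cv0m12),
  (8, copies 131072 3 cv0m13),
  (4, copies 131072 3 cv0m14),
  (2, copies 131072 3 cv0m15),
  (1, copies 131072 3 cv0m16),
  (2, copies 131072 3 cv0m17),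
  (4, copies 131072 3 cv0m18),
  (8, copies 131072 3 cv0m19),
  (16, copies 131072 3 cv0m20),
  (32, copies 131072 3 cv0m21),
  (64, copies 131072 3 cv0m22),
  (128, copies 131072 3 cv0m23),
  (256, copies 131072 3 cv0m24),
  (512, copies 131072 3 cv0m25),
  (1024, copies 131072 3 cv0m26),
  (2048, copies 131072 3 cv0m27),
  (4096, copies 131072 3 cv0m28),
  (8192, copies 131072 3 cv0m29),
  (16384, copies 131072 3 cv0m30),
  (32768, copies 131072 3 cv0m31),
  (65536, copies 131072 3 cv0m32),
  (131072, cv0m35),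
  (131072, cv0m34),
  (131072, cv0m33)]
noncomputable def cv0s1 : List (ℕ × ℕ) := [(131072, cv0m33),
  (131072, cv0m34),
  (131072, cv0m35),
  (65536, copies 131072 3 cv0m32),
  (32768, copies 131072 3 cv0m31),
  (16384, copies 131072 3 cv0m30),
  (8192, copies 131072 3 cv0m29),
  (4096, copies 131072 3 cv0m28),
  (2048, copies 131072 3 cv0m27),
  (1024, copies 131072 3 cv0m26),
  (512, copies 131072 3 cv0m25),
  (256, copies 131072 3 cv0m24),
  (128, copies 131072 3 cv0m23),
  (64, copies 131072 3 cv0m22),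
  (32, copies 131072 3 cv0m21),
  (16, copies 131072 3 cv0m20),
  (8, copies 131072 3 cv0m19),
  (4, copies 131072 3 cv0m18),
  (2, copies 131072 3 cv0m17),
  (1, copies 131072 3 cv0m16),
  (2, copies 131072 3 cv0m15),
  (4, copies 131072 3 cv0m14),
  (8, copies 131072 3 cv0m13),
  (16, copies 131072 3 cv0m12),
  (32, copies 131072 3 cv0m11),
  (64, copies 131072 3 cv0m10),
  (128, copies 131072 3 cv0m9),
  (256, copies 131072 3 cv0m8),
  (512, copies 131072 3 cv0m7),
  (1024, copies 131072 3 cv0m6),
  (2048, copies 131072 3 cv0m5),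
  (4096, copies 131072 3 cv0m4),
  (8192, copies 131072 3 cv0m3),
  (16384, copies 131072 3 cv0m2),
  (32768, copies 131072 3 cv0m1),
  (65536, copies 131072 3 cv0m0)]
noncomputable def cv0s2 : List (ℕ × ℕ) := [(65536, copies 131072 3 cv0m36),
  (32768, copies 131072 3 cv0m37),
  (16384, copies 131072 3 cv0m38),
  (8192, copies 131072 3 cv0m39),
  (4096, copies 131072 3 cv0m40),
  (2048, copies 131072 3 cv0m41),
  (1024, copies 131072 3 cv0m42),
  (512, copies 131072 3 cv0m43),
  (256, copies 131072 3 cv0m44),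
  (128, copies 131072 3 cv0m45),
  (64, copies 131072 3 cv0m46),
  (32, copies 131072 3 cv0m47),
  (16, copies 131072 3 cv0m48),
  (8, copies 131072 3 cv0m49),
  (4, copies 131072 3 cv0m50),
  (2, copies 131072 3 cv0m51),
  (1, copies 131072 3 cv0m52),
  (2, copies 131072 3 cv0m53),
  (4, copies 131072 3 cv0m54),
  (8, copies 131072 3 cv0m55),
  (16, copies 131072 3 cv0m56),
  (32, copies 131072 3 cv0m57),
  (64, copies 131072 3 cv0m58),
  (128, copies 131072 3 cv0m59),
  (256, copies 131072 3 cv0m60),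
  (512, copies 131072 3 cv0m61),
  (1024, copies 131072 3 cv0m62),
  (2048, copies 131072 3 cv0m63),
  (4096, copies 131072 3 cv0m64),
  (8192, copies 131072 3 cv0m65),
  (16384, copies 131072 3 cv0m66),
  (32768, copies 131072 3 cv0m67),
  (65536, copies 131072 3 cv0m68),
  (131072, cv0m71),
  (131072, cv0m70),
  (131072, cv0m69)]
noncomputable def cv0s3 : List (ℕ × ℕ) := [(65536, copies 131072 3 cv0m72),
  (32768, copies 131072 3 cv0m73),
  (16384, copies 131072 3 cv0m74),
  (8192, copies 131072 3 cv0m75),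
  (4096, copies 131072 3 cv0m76),
  (2048, copies 131072 3 cv0m77),
  (1024, copies 131072 3 cv0m78),
  (512, copies 131072 3 cv0m79),
  (256, copies 131072 3 cv0m80),
  (128, copies 131072 3 cv0m81),
  (64, copies 131072 3 cv0m82),
  (32, copies 131072 3 cv0m83),
  (16, copies 131072 3 cv0m84),
  (8, copies 131072 3 cv0m85),
  (4, copies 131072 3 cv0m86),
  (2, copies 131072 3 cv0m87),
  (1, copies 131072 3 cv0m88),
  (2, copies 131072 3 cv0m89),
  (4, copies 131072 3 cv0m90),
  (8, copies 131072 3 cv0m91),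
  (16, copies 131072 3 cv0m92),
  (32, copies 131072 3 cv0m93),
  (64, copies 131072 3 cv0m94),
  (128, copies 131072 3 cv0m95),
  (256, copies 131072 3 cv0m96),
  (512, copies 131072 3 cv0m97),
  (1024, copies 131072 3 cv0m98),
  (2048, copies 131072 3 cv0m99),
  (4096, copies 131072 3 cv0m100),
  (8192, copies 131072 3 cv0m101),
  (16384, copies 131072 3 cv0m102),
  (32768, copies 131072 3 cv0m103),
  (65536, copies 131072 3 cv0m104),
  (131072, cv0m107),
  (131072, cv0m106),
  (131072, cv0m105)]
noncomputable def cv0s4 : List (ℕ × ℕ) := [(65536, copies 131072 3 cv0m108),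
  (32768, copies 131072 3 cv0m109),
  (16384, copies 131072 3 cv0m110),
  (8192, copies 131072 3 cv0m111),
  (4096, copies 131072 3 cv0m112),
  (2048, copies 131072 3 cv0m113),
  (1024, copies 131072 3 cv0m114),
  (512, copies 131072 3 cv0m115),
  (256, copies 131072 3 cv0m116),
  (128, copies 131072 3 cv0m117),
  (64, copies 131072 3 cv0m118),
  (32, copies 131072 3 cv0m119),
  (16, copies 131072 3 cv0m120),
  (8, copies 131072 3 cv0m121),
  (4, copies 131072 3 cv0m122),
  (2, copies 131072 3 cv0m123),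
  (1, copies 131072 3 cv0m124),
  (2, copies 131072 3 cv0m125),
  (4, copies 131072 3 cv0m126),
  (8, copies 131072 3 cv0m127),
  (16, copies 131072 3 cv0m128),
  (32, copies 131072 3 cv0m129),
  (64, copies 131072 3 cv0m130),
  (128, copies 131072 3 cv0m131),
  (256, copies 131072 3 cv0m132),
  (512, copies 131072 3 cv0m133),
  (1024, copies 131072 3 cv0m134),
  (2048, copies 131072 3 cv0m135),
  (4096, copies 131072 3 cv0m136),
  (8192, copies 131072 3 cv0m137),
  (16384, copies 131072 3 cv0m138),
  (32768, copies 131072 3 cv0m139),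
  (65536, copies 131072 3 cv0m140),
  (131072, cv0m143),
  (131072, cv0m142),
  (131072, cv0m141)]
noncomputable def cv0s5 : List (ℕ × ℕ) := [(65536, copies 131072 3 cv0m144),
  (32768, copies 131072 3 cv0m145),
  (16384, copies 131072 3 cv0m146),
  (8192, copies 131072 3 cv0m147),
  (4096, copies 131072 3 cv0m148),
  (2048, copies 131072 3 cv0m149),
  (1024, copies 131072 3 cv0m150),
  (512, copies 131072 3 cv0m151),
  (256, copies 131072 3 cv0m152),
  (128, copies 131072 3 cv0m153),
  (64, copies 131072 3 cv0m154),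
  (32, copies 131072 3 cv0m155),
  (16, copies 131072 3 cv0m156),
  (8, copies 131072 3 cv0m157),
  (4, copies 131072 3 cv0m158),
  (2, copies 131072 3 cv0m159),
  (1, copies 131072 3 cv0m160),
  (2, copies 131072 3 cv0m161),
  (4, copies 131072 3 cv0m162),
  (8, copies 131072 3 cv0m163),
  (16, copies 131072 3 cv0m164),
  (32, copies 131072 3 cv0m165),
  (64, copies 131072 3 cv0m166),
  (128, copies 131072 3 cv0m167),
  (256, copies 131072 3 cv0m168),
  (512, copies 131072 3 cv0m169),
  (1024, copies 131072 3 cv0m170),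
  (2048, copies 131072 3 cv0m171),
  (4096, copies 131072 3 cv0m172),
  (8192, copies 131072 3 cv0m173),
  (16384, copies 131072 3 cv0m174),
  (32768, copies 131072 3 cv0m175),
  (65536, copies 131072 3 cv0m176),
  (131072, cv0m179),
  (131072, cv0m178),
  (131072, cv0m177)]
noncomputable def cv0s6 : List (ℕ × ℕ) := [(65536, copies 131072 3 cv0m180),
  (32768, copies 131072 3 cv0m181),
  (16384, copies 131072 3 cv0m182),
  (8192, copies 131072 3 cv0m183),
  (4096, copies 131072 3 cv0m184),
  (2048, copies 131072 3 cv0m185),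
  (1024, copies 131072 3 cv0m186),
  (512, copies 131072 3 cv0m187),
  (256, copies 131072 3 cv0m188),
  (128, copies 131072 3 cv0m189),
  (64, copies 131072 3 cv0m190),
  (32, copies 131072 3 cv0m191),
  (16, copies 131072 3 cv0m192),
  (8, copies 131072 3 cv0m193),
  (4, copies 131072 3 cv0m194),
  (2, copies 131072 3 cv0m195),
  (1, copies 131072 3 cv0m196),
  (2, copies 131072 3 cv0m197),
  (4, copies 131072 3 cv0m198),
  (8, copies 131072 3 cv0m199),
  (16, copies 131072 3 cv0m200),
  (32, copies 131072 3 cv0m201),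
  (64, copies 131072 3 cv0m202),
  (128, copies 131072 3 cv0m203),
  (256, copies 131072 3 cv0m204),
  (512, copies 131072 3 cv0m205),
  (1024, copies 131072 3 cv0m206),
  (2048, copies 131072 3 cv0m207),
  (4096, copies 131072 3 cv0m208),
  (8192, copies 131072 3 cv0m209),
  (16384, copies 131072 3 cv0m210),
  (32768, copies 131072 3 cv0m211),
  (65536, copies 131072 3 cv0m212),
  (131072, cv0m215),
  (131072, cv0m214),
  (131072, cv0m213)]
noncomputable def cv0s7 : List (ℕ × ℕ) := [(65536, copies 131072 3 cv0m216),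
  (32768, copies 131072 3 cv0m217),
  (16384, copies 131072 3 cv0m218),
  (8192, copies 131072 3 cv0m219),
  (4096, copies 131072 3 cv0m220),
  (2048, copies 131072 3 cv0m221),
  (1024, copies 131072 3 cv0m222),
  (512, copies 131072 3 cv0m223),
  (256, copies 131072 3 cv0m224),
  (128, copies 131072 3 cv0m225),
  (64, copies 131072 3 cv0m226),
  (32, copies 131072 3 cv0m227),
  (16, copies 131072 3 cv0m228),
  (8, copies 131072 3 cv0m229),
  (4, copies 131072 3 cv0m230),
  (2, copies 131072 3 cv0m231),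
  (1, copies 131072 3 cv0m232),
  (2, copies 131072 3 cv0m233),
  (4, copies 131072 3 cv0m234),
  (8, copies 131072 3 cv0m235),
  (16, copies 131072 3 cv0m236),
  (32, copies 131072 3 cv0m237),
  (64, copies 131072 3 cv0m238),
  (128, copies 131072 3 cv0m239),
  (256, copies 131072 3 cv0m240),
  (512, copies 131072 3 cv0m241),
  (1024, copies 131072 3 cv0m242),
  (2048, copies 131072 3 cv0m243),
  (4096, copies 131072 3 cv0m244),
  (8192, copies 131072 3 cv0m245),
  (16384, copies 131072 3 cv0m246),
  (32768, copies 131072 3 cv0m247),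
  (65536, copies 131072 3 cv0m248),
  (131072, cv0m251),
  (131072, cv0m250),
  (131072, cv0m249)]
noncomputable def cv0s8 : List (ℕ × ℕ) := [(131072, (Nat.shiftLeft (Nat.sub (Nat.pow 2 122760) 1) 0)),
  (131072, (Nat.shiftLeft (Nat.sub (Nat.pow 2 122760) 1) 131072))]
noncomputable def cv0 : Mono := ⟨393216, 19, 3, 8, [cv0s0,cv0s1,cv0s2,cv0s3,cv0s4,cv0s5,cv0s6,cv0s7,cv0s8], [0,1,0,0,2,1,2,0,1,0,2,0,0,2,1,2,2,1,2,0,1,0,2,1,1,2,1,0,1]⟩

end Cfsg.Agent.Mult.ON
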